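import Mathlib
set_option linter.all false

/-!
# Redundant Sylow subgroups: generalities

`Q : Sylow p G` is redundant if every `p`-element of `G` lies in a Sylow `p`-subgroup other than `Q`.

* `red_iff`: there is a redundant Sylow `p`-subgroup iff every `p`-element lies in two different Sylow
  `p`-subgroups.
* `red_iff_of_central`: invariance under surjections with central kernel.
* `not_red_of_isCyclic`, `not_red_of_inf`: cyclic Sylow subgroups, TI Sylow subgroups.
* `red_two`, `not_red_torus`: the arguments for a group with a cyclic subgroup inverted by an element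
  (as the tori of `SL₂(q)`).
-/

set_option autoImplicit false

open Subgroup Pointwise

namespace Cfsg.Agent.H574

/-- There is a redundant Sylow `p`-subgroup. -/
def Red (p : ℕ) (G : Type*) [Group G] : Prop :=
  ∃ Q : Sylow p G, ∀ x : G, (∃ k : ℕ, orderOf x = p ^ k) → ∃ P : Sylow p G, P ≠ Q ∧ x ∈ P

/-- Every `p`-element lies in two different Sylow `p`-subgroups. -/
def Red2 (p : ℕ) (G : Type*) [Group G] : Prop :=
  ∀ x : G, (∃ k : ℕ, orderOf x = p ^ k) → ∃ P Q : Sylow p G, P ≠ Q ∧ x ∈ P ∧ x ∈ Q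

variable {G : Type*} [Group G]

theorem exists_sylow_mem {p : ℕ} [Fact p.Prime] {x : G} (hx : ∃ k : ℕ, orderOf x = p ^ k) :
    ∃ P : Sylow p G, x ∈ P := by
  obtain ⟨k, hk⟩ := hx
  have h : IsPGroup p (zpowers x) := by
    apply IsPGroup.of_card (n := k)
    rw [Nat.card_zpowers, hk]
  obtain ⟨P, hP⟩ := h.exists_le_sylow
  exact ⟨P, hP (mem_zpowers x)⟩

theorem orderOf_of_mem [Finite G] {p : ℕ} [Fact p.Prime] {x : G} (P : Sylow p G) (hx : x ∈ P) :
    ∃ k : ℕ, orderOf x = p ^ k := by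
  have := IsPGroup.iff_orderOf.mp P.2 ⟨x, hx⟩
  simpa using this

theorem mem_coe_iff {p : ℕ} {x : G} {P : Sylow p G} : x ∈ (P : Subgroup G) ↔ x ∈ P := Iff.rfl

theorem mem_smul_iff {p : ℕ} {g x : G} {P : Sylow p G} : x ∈ g • P ↔ g⁻¹ * x * g ∈ P := by
  rw [← mem_coe_iff, Sylow.smul_def, Sylow.pointwise_smul_def, Subgroup.mem_pointwise_smul_iff_inv_smul_mem]
  simp [MulAut.smul_def]
  exact Iff.rfl

theorem red_iff [Finite G] {p : ℕ} [Fact p.Prime] : Red p G ↔ Red2 p G := by
  constructor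
  · rintro ⟨Q, hQ⟩ x hx
    obtain ⟨P, hP⟩ := exists_sylow_mem hx
    obtain ⟨g, hg⟩ := MulAction.exists_smul_eq G Q P
    have hxg : g⁻¹ * x * g ∈ Q := by
      rw [← mem_smul_iff, hg]; exact hP
    obtain ⟨R, hR, hxR⟩ := hQ _ (orderOf_of_mem Q hxg)
    refine ⟨g • R, P, ?_, ?_, hP⟩
    · intro h
      apply hR
      rw [← hg] at h
      exact smul_left_cancel g h
    · rw [mem_smul_iff]; exact hxR
  · intro h
    obtain ⟨Q⟩ := (inferInstance : Nonempty (Sylow p G))
    refine ⟨Q, fun x hx => ?_⟩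
    obtain ⟨P, R, hPR, hP, hR⟩ := h x hx
    by_cases h1 : P = Q
    · exact ⟨R, fun h2 => hPR (h1.trans h2.symm), hR⟩
    · exact ⟨P, h1, hP⟩

/-- It is enough to look at conjugates. -/
theorem two_of_conj {p : ℕ} {x g : G}
    (h : ∃ P Q : Sylow p G, P ≠ Q ∧ g⁻¹ * x * g ∈ P ∧ g⁻¹ * x * g ∈ Q) :
    ∃ P Q : Sylow p G, P ≠ Q ∧ x ∈ P ∧ x ∈ Q := by
  obtain ⟨P, Q, h1, h2, h3⟩ := h
  exact ⟨g • P, g • Q, fun h => h1 (smul_left_cancel g h), mem_smul_iff.2 h2, mem_smul_iff.2 h3⟩

theorem mem_of_normalizes [Finite G] {p : ℕ} [Fact p.Prime] (P : Sylow p G) {x : G}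
    (hx : ∃ k : ℕ, orderOf x = p ^ k) (hn : x ∈ normalizer ((P : Subgroup G) : Set G)) : x ∈ P := by
  obtain ⟨k, hk⟩ := hx
  have h : IsPGroup p (zpowers x) := by
    apply IsPGroup.of_card (n := k)
    rw [Nat.card_zpowers, hk]
  have h1 := h.inf_normalizer_sylow P
  have h2 : x ∈ zpowers x ⊓ normalizer ((P : Subgroup G) : Set G) := ⟨mem_zpowers x, hn⟩
  have h3 : x ∈ zpowers x ⊓ (P : Subgroup G) := h1 ▸ h2
  exact h3.2

theorem orderOf_map {H : Type*} [Group H] [Finite G] {p : ℕ} [Fact p.Prime] (f : G →* H) {x : G}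
    (hx : ∃ k : ℕ, orderOf x = p ^ k) : ∃ k : ℕ, orderOf (f x) = p ^ k := by
  obtain ⟨k, hk⟩ := hx
  obtain ⟨j, -, hj⟩ := (Nat.dvd_prime_pow Fact.out).1 (hk ▸ orderOf_map_dvd f x)
  exact ⟨j, hj⟩

theorem mem_of_map_mem {H : Type*} [Group H] [Finite G] {p : ℕ} [Fact p.Prime] (f : G →* H)
    (hker : f.ker ≤ center G) (P : Sylow p G) {x : G} (hx : ∃ k : ℕ, orderOf x = p ^ k)
    (hm : f x ∈ (P : Subgroup G).map f) : x ∈ P := by
  obtain ⟨y, hy, hyx⟩ := hm
  apply mem_of_normalizes P hx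
  have hz : y⁻¹ * x ∈ f.ker := by
    rw [MonoidHom.mem_ker, map_mul, map_inv, hyx, inv_mul_cancel]
  have hz' := hker hz
  have h1 : x = y * (y⁻¹ * x) := by group
  rw [h1]
  apply mul_mem
  · exact le_normalizer hy
  · rw [mem_normalizer_iff]
    intro g
    rw [mem_center_iff] at hz'
    rw [← hz' g, mul_assoc, mul_inv_cancel, mul_one]

theorem red2_iff_of_central {H : Type*} [Group H] [Finite G] {p : ℕ} [Fact p.Prime] (f : G →* H)
    (hf : Function.Surjective f) (hker : f.ker ≤ center G) : Red2 p G ↔ Red2 p H := by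
  have : Finite H := Finite.of_surjective f hf
  constructor
  · intro h y hy
    obtain ⟨R, hR⟩ := exists_sylow_mem hy
    obtain ⟨P, rfl⟩ := Sylow.mapSurjective_surjective hf p R
    rw [← mem_coe_iff, Sylow.coe_mapSurjective] at hR
    obtain ⟨x, hx, rfl⟩ := hR
    obtain ⟨P1, P2, hne, h1, h2⟩ := h x (orderOf_of_mem P hx)
    refine ⟨P1.mapSurjective hf, P2.mapSurjective hf, ?_, ?_, ?_⟩
    · intro he
      apply hne
      have hle : (P1 : Subgroup G) ≤ P2 := by
        intro g hg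
        apply mem_of_map_mem f hker P2 (orderOf_of_mem P1 hg)
        have : f g ∈ (P1 : Subgroup G).map f := ⟨g, hg, rfl⟩
        rw [← Sylow.coe_mapSurjective hf, he, Sylow.coe_mapSurjective] at this
        exact this
      apply Sylow.ext
      exact (P1.3 P2.2 hle).symm
    · rw [← mem_coe_iff, Sylow.coe_mapSurjective]; exact ⟨x, h1, rfl⟩
    · rw [← mem_coe_iff, Sylow.coe_mapSurjective]; exact ⟨x, h2, rfl⟩
  · intro h x hx
    obtain ⟨R1, R2, hne, h1, h2⟩ := h (f x) (orderOf_map f hx)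
    obtain ⟨P1, rfl⟩ := Sylow.mapSurjective_surjective hf p R1
    obtain ⟨P2, rfl⟩ := Sylow.mapSurjective_surjective hf p R2
    refine ⟨P1, P2, fun he => hne (by rw [he]), ?_, ?_⟩
    · rw [← mem_coe_iff, Sylow.coe_mapSurjective] at h1
      exact mem_of_map_mem f hker P1 hx h1
    · rw [← mem_coe_iff, Sylow.coe_mapSurjective] at h2
      exact mem_of_map_mem f hker P2 hx h2

theorem red_iff_of_central {H : Type*} [Group H] [Finite G] {p : ℕ} [Fact p.Prime] (f : G →* H)
    (hf : Function.Surjective f) (hker : f.ker ≤ center G) : Red p G ↔ Red p H := by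
  have : Finite H := Finite.of_surjective f hf
  rw [red_iff, red_iff, red2_iff_of_central f hf hker]

theorem eq_of_le_card [Finite G] {p : ℕ} [Fact p.Prime] (P Q : Sylow p G)
    (h : (P : Subgroup G) ≤ Q) : P = Q := Sylow.ext (P.3 Q.2 h).symm

/-- Cyclic Sylow subgroups are not redundant. -/
theorem not_red_of_isCyclic [Finite G] {p : ℕ} [Fact p.Prime] (Q : Sylow p G)
    (hQ : IsCyclic Q) : ¬ Red2 p G := by
  intro h
  obtain ⟨g, hg⟩ := hQ.exists_generator
  have hz : (Q : Subgroup G) = zpowers (g : G) := by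
    apply le_antisymm
    · intro x hx
      obtain ⟨k, hk⟩ := mem_zpowers_iff.1 (hg ⟨x, hx⟩)
      exact mem_zpowers_iff.2 ⟨k, by simpa using congrArg Subtype.val hk⟩
    · rw [zpowers_le]; exact g.2
  obtain ⟨P1, P2, hne, h1, h2⟩ := h g (orderOf_of_mem Q g.2)
  have e1 : Q = P1 := eq_of_le_card Q P1 (by rw [hz, zpowers_le]; exact h1)
  have e2 : Q = P2 := eq_of_le_card Q P2 (by rw [hz, zpowers_le]; exact h2)
  exact hne (e1.symm.trans e2)

/-- TI Sylow subgroups are not redundant. -/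
theorem not_red_of_inf [Finite G] {p : ℕ} [Fact p.Prime] (Q : Sylow p G) (x : G) (hx : x ∈ Q)
    (hx1 : x ≠ 1) (hti : ∀ P R : Sylow p G, P ≠ R → (P : Subgroup G) ⊓ (R : Subgroup G) = ⊥) :
    ¬ Red2 p G := by
  intro h
  obtain ⟨P1, P2, hne, h1, h2⟩ := h x (orderOf_of_mem Q hx)
  have : x ∈ (P1 : Subgroup G) ⊓ (P2 : Subgroup G) := ⟨h1, h2⟩
  rw [hti P1 P2 hne] at this
  exact hx1 this

/-- If `a` generates a subgroup of index `p` in its Sylow subgroups and the normalizer of `⟨a⟩` has the order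
of a Sylow subgroup at most, then no Sylow subgroup is redundant. -/
theorem not_red_of_normalizer [Finite G] {p : ℕ} [Fact p.Prime] (a : G) (k : ℕ)
    (ha : orderOf a = p ^ k) (hG : (Nat.card G).factorization p = k + 1)
    (hN : Nat.card (normalizer ((zpowers a : Subgroup G) : Set G)) ≤ p ^ (k + 1)) :
    ¬ Red2 p G := by
  intro h
  obtain ⟨P1, P2, hne, h1, h2⟩ := h a ⟨k, ha⟩
  have key : ∀ P : Sylow p G, a ∈ P → (P : Subgroup G) = normalizer ((zpowers a : Subgroup G) : Set G) := by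
    intro P hP
    have hle : zpowers a ≤ (P : Subgroup G) := by rw [zpowers_le]; exact hP
    have hcard : Nat.card (P : Subgroup G) = p ^ (k + 1) := by
      rw [← hG]; exact P.card_eq_multiplicity
    have hidx : ((zpowers a).subgroupOf (P : Subgroup G)).index = p := by
      have h5 := card_mul_index ((zpowers a).subgroupOf (P : Subgroup G))
      have h6 : Nat.card ((zpowers a).subgroupOf (P : Subgroup G)) = p ^ k := by
        rw [Nat.card_congr (subgroupOfEquivOfLe hle).toEquiv, Nat.card_zpowers, ha]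
      rw [h6, hcard, pow_succ] at h5
      exact Nat.eq_of_mul_eq_mul_left (pow_pos (Fact.out : p.Prime).pos k) h5
    have hnorm : ((zpowers a).subgroupOf (P : Subgroup G)).Normal := by
      apply Subgroup.normal_of_index_eq_minFac_card
      rw [hidx, hcard]
      rw [Nat.Prime.pow_minFac Fact.out (by omega)]
    have hle2 : (P : Subgroup G) ≤ normalizer ((zpowers a : Subgroup G) : Set G) :=
      (normal_subgroupOf_iff_le_normalizer hle).1 hnorm
    apply Subgroup.eq_of_le_of_card_ge hle2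
    rw [hcard]; exact hN
  apply hne
  apply Sylow.ext
  rw [key P1 h1, key P2 h2]

/-- Elements of the nontrivial coset of an inverted cyclic subgroup. -/
theorem coset_sq {a s g : G} (hs : s⁻¹ * a * s = a⁻¹) (hg : g * s⁻¹ ∈ zpowers a) : g * g = s * s := by
  obtain ⟨i, hi⟩ := mem_zpowers_iff.1 hg
  have h1 : g = a ^ i * s := by rw [hi]; group
  have h2 : s * a * s⁻¹ = a⁻¹ := by
    have : a = s * a⁻¹ * s⁻¹ := by rw [← hs]; group
    have h3 := congrArg (fun x => x⁻¹) this
    simp only [mul_inv_rev, inv_inv] at h3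
    rw [h3, mul_assoc]
  have h3 : s * a ^ i * s⁻¹ = (a ^ i)⁻¹ := by
    rw [← inv_zpow, ← h2]
    exact (conj_zpow).symm
  calc g * g = a ^ i * (s * a ^ i * s⁻¹) * (s * s) := by rw [h1]; group
    _ = s * s := by rw [h3]; group

theorem sub_torus [Finite G] {p : ℕ} [Fact p.Prime] (a : G) (k : ℕ) (ha : orderOf a = p ^ k)
    (hG : (Nat.card G).factorization p = k + 1) (P : Sylow p G) (hP : a ∈ P) :
    (P : Subgroup G) ≤ normalizer ((zpowers a : Subgroup G) : Set G) := by
  have hle : zpowers a ≤ (P : Subgroup G) := by rw [zpowers_le]; exact hP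
  have hcard : Nat.card (P : Subgroup G) = p ^ (k + 1) := by
    rw [← hG]; exact P.card_eq_multiplicity
  have hidx : ((zpowers a).subgroupOf (P : Subgroup G)).index = p := by
    have h5 := card_mul_index ((zpowers a).subgroupOf (P : Subgroup G))
    have h6 : Nat.card ((zpowers a).subgroupOf (P : Subgroup G)) = p ^ k := by
      rw [Nat.card_congr (subgroupOfEquivOfLe hle).toEquiv, Nat.card_zpowers, ha]
    rw [h6, hcard, pow_succ] at h5
    exact Nat.eq_of_mul_eq_mul_left (pow_pos (Fact.out : p.Prime).pos k) h5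
  have hnorm : ((zpowers a).subgroupOf (P : Subgroup G)).Normal := by
    apply Subgroup.normal_of_index_eq_minFac_card
    rw [hidx, hcard]
    rw [Nat.Prime.pow_minFac Fact.out (by omega)]
  exact (normal_subgroupOf_iff_le_normalizer hle).1 hnorm

/-- The case of a torus whose order is a power of two. -/
theorem not_red_of_torus [Finite G] (a s z : G) (k : ℕ) (ha : orderOf a = 2 ^ k) (hk : 2 ≤ k)
    (hz : z * z = 1)
    (hG : (Nat.card G).factorization 2 = k + 1)
    (hN : ∀ t ∈ zpowers a, t ≠ 1 → t ≠ z → ∀ g : G, g⁻¹ * t * g ∈ zpowers a →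
      g ∈ zpowers a ∨ g * s⁻¹ ∈ zpowers a) : ¬ Red2 2 G := by
  apply not_red_of_normalizer a k ha hG
  have h1 : ((normalizer ((zpowers a : Subgroup G) : Set G) : Subgroup G) : Set G) ⊆
      (zpowers a : Set G) ∪ (fun x => x * s) '' (zpowers a : Set G) := by
    intro g hg
    have hg' : g⁻¹ * a * g ∈ zpowers a := by
      rw [SetLike.mem_coe, mem_normalizer_iff''] at hg
      exact (hg a).1 (mem_zpowers a)
    have ha1 : a ≠ 1 := by
      intro h
      rw [h, orderOf_one] at ha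
      have : 1 < 2 ^ k := Nat.one_lt_two_pow (by omega)
      omega
    have haz : a ≠ z := by
      intro h
      have h2 : a ^ 2 = 1 := by rw [h, pow_two, hz]
      have h3 := orderOf_dvd_of_pow_eq_one h2
      rw [ha] at h3
      have h4 : 2 ^ 2 ≤ 2 ^ k := Nat.pow_le_pow_right (by norm_num) hk
      have := Nat.le_of_dvd (by norm_num) h3
      omega
    rcases hN a (mem_zpowers a) ha1 haz g hg' with h | h
    · exact Or.inl h
    · exact Or.inr ⟨g * s⁻¹, h, by simp⟩
  have h2 := Set.ncard_le_ncard h1 (Set.toFinite _)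
  have h3 := Set.ncard_union_le (zpowers a : Set G) ((fun x => x * s) '' (zpowers a : Set G))
  have h4 := Set.ncard_image_le (f := fun x => x * s) (Set.toFinite (zpowers a : Set G))
  have h5 : (zpowers a : Set G).ncard = 2 ^ k := by
    rw [← Nat.card_coe_set_eq]
    change Nat.card (zpowers a) = _
    rw [Nat.card_zpowers, ha]
  rw [← Nat.card_coe_set_eq] at h2
  change Nat.card (normalizer ((zpowers a : Subgroup G) : Set G)) ≤ _ at h2
  rw [pow_succ]
  omega

/-- The case of a torus whose order is divisible by four but not a power of two. -/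
theorem red2_of_torus [Finite G] (a s z : G) (n : ℕ) (ha : orderOf a = n) (h4 : 4 ∣ n)
    (hs : s⁻¹ * a * s = a⁻¹) (hss : s * s = z) (hz : a ^ (n / 2) = z)
    (hconj : ∀ x y : G, x * x = z → y * y = z → ∃ g : G, g⁻¹ * x * g = y)
    (hG : (Nat.card G).factorization 2 = n.factorization 2 + 1)
    (hnp : ¬ ∃ k : ℕ, n = 2 ^ k)
    (hN : ∀ t ∈ zpowers a, t ≠ 1 → t ≠ z → ∀ g : G, g⁻¹ * t * g ∈ zpowers a →
      g ∈ zpowers a ∨ g * s⁻¹ ∈ zpowers a) : Red2 2 G := by
  have hn0 : n ≠ 0 := by rw [← ha]; exact (orderOf_pos a).ne'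
  obtain ⟨e, m, hm, hnm⟩ := Nat.exists_eq_two_pow_mul_odd hn0
  have hm0 : m ≠ 0 := by rintro rfl; simp at hnm; exact hn0 hnm
  have he : n.factorization 2 = e := by
    rw [hnm, Nat.factorization_mul (by positivity) hm0, Nat.Prime.factorization_pow Nat.prime_two]
    simp only [Finsupp.coe_add, Pi.add_apply, Finsupp.single_eq_same]
    rw [Nat.factorization_eq_zero_of_not_dvd]
    · rfl
    · rw [← even_iff_two_dvd, Nat.not_even_iff_odd]; exact hm
  have he2 : 2 ≤ e := by
    by_contra hlt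
    have h5 : e = 0 ∨ e = 1 := by omega
    obtain ⟨c, hc⟩ := h4
    obtain ⟨d, hd⟩ := hm
    rcases h5 with h5 | h5 <;> rw [h5] at hnm <;> omega
  set b := a ^ m with hb
  have hbo : orderOf b = 2 ^ e := by
    rw [hb, orderOf_pow' a hm0, ha, hnm, Nat.gcd_mul_left_left, Nat.mul_div_cancel _ (Nat.pos_of_ne_zero hm0)]
  obtain ⟨P, hP⟩ := exists_sylow_mem (p := 2) (x := b) ⟨e, hbo⟩
  have hPn := sub_torus b e hbo (by rw [hG, he]) P hP
  have hzz : z * z = 1 := by
    rw [← hz, ← pow_add]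
    have : n / 2 + n / 2 = n := by omega
    rw [this, ← ha, pow_orderOf_eq_one]
  have h4e : 2 ^ 2 ≤ 2 ^ e := Nat.pow_le_pow_right (by norm_num) he2
  have hb1 : b ≠ 1 := by
    intro h
    rw [h, orderOf_one] at hbo
    omega
  have hbz : b ≠ z := by
    intro h
    have h2 : b ^ 2 = 1 := by rw [h, pow_two, hzz]
    have h3 := orderOf_dvd_of_pow_eq_one h2
    rw [hbo] at h3
    have := Nat.le_of_dvd (by norm_num) h3
    omega
  have hba : b ∈ zpowers a := ⟨m, by simp [hb]⟩
  have hPc : ∀ g ∈ P, g ∈ zpowers a ∨ g * s⁻¹ ∈ zpowers a := by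
    intro g hg
    have h1 := hPn hg
    rw [mem_normalizer_iff''] at h1
    have h2 := (h1 b).1 (mem_zpowers b)
    exact hN b hba hb1 hbz g ((zpowers_le.2 hba) h2)
  -- `a` does not normalize `P`
  have haP : a • P ≠ P := by
    intro h
    have hex : ∃ g ∈ P, g ∉ zpowers a := by
      by_contra hcon
      push Not at hcon
      have hle : (P : Subgroup G) ≤ zpowers a := hcon
      have h1 := card_dvd_of_le hle
      rw [P.card_eq_multiplicity, Nat.card_zpowers, ha, hG] at h1
      have h2 := (Nat.Prime.pow_dvd_iff_le_factorization Nat.prime_two hn0).1 h1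
      omega
    obtain ⟨g, hgP, hg⟩ := hex
    have h1 := (hPc g hgP).resolve_left hg
    have h2 : a⁻¹ * g * a ∈ P := by rw [← mem_smul_iff, h]; exact hgP
    have h3 : a⁻¹ * g * a * g⁻¹ ∈ P := mul_mem h2 (inv_mem hgP)
    obtain ⟨i, hi⟩ := mem_zpowers_iff.1 h1
    have h4' : g = a ^ i * s := by rw [hi]; group
    have h5 : s * a * s⁻¹ = a⁻¹ := by
      have : a = s * a⁻¹ * s⁻¹ := by rw [← hs]; group
      have h3 := congrArg (fun x => x⁻¹) this
      simp only [mul_inv_rev, inv_inv] at h3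
      rw [h3, mul_assoc]
    have h6 : a⁻¹ * g * a * g⁻¹ = a⁻¹ ^ 2 := by
      calc a⁻¹ * g * a * g⁻¹ = a⁻¹ * a ^ i * (s * a * s⁻¹) * (a ^ i)⁻¹ := by rw [h4']; group
        _ = a⁻¹ ^ 2 := by rw [h5]; group
    rw [h6] at h3
    obtain ⟨k, hk⟩ := orderOf_of_mem P h3
    apply hnp
    have h7 : a⁻¹ ^ 2 ^ (k + 1) = 1 := by
      rw [pow_succ', pow_mul, ← hk, pow_orderOf_eq_one]
    have h8 := orderOf_dvd_of_pow_eq_one h7
    rw [orderOf_inv, ha] at h8
    obtain ⟨j, -, hj⟩ := (Nat.dvd_prime_pow Nat.prime_two).1 h8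
    exact ⟨j, hj⟩
  -- elements of `P ∩ ⟨a⟩`
  have key1 : ∀ x ∈ P, x ∈ zpowers a → ∃ P Q : Sylow 2 G, P ≠ Q ∧ x ∈ P ∧ x ∈ Q := by
    intro x hx hxa
    refine ⟨a • P, P, haP, ?_, hx⟩
    rw [mem_smul_iff]
    obtain ⟨i, rfl⟩ := mem_zpowers_iff.1 hxa
    have : a⁻¹ * a ^ i * a = a ^ i := by group
    rw [this]; exact hx
  intro x hx
  obtain ⟨R, hR⟩ := exists_sylow_mem hx
  obtain ⟨g, hg⟩ := MulAction.exists_smul_eq G P R
  have hxg : g⁻¹ * x * g ∈ P := by
    rw [← mem_smul_iff, hg]; exact hR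
  apply two_of_conj (g := g)
  rcases hPc _ hxg with h | h
  · exact key1 _ hxg h
  · have h1 := coset_sq hs h
    rw [hss] at h1
    have hy : a ^ (n / 4) * a ^ (n / 4) = z := by
      rw [← pow_add, ← hz]
      congr 1; omega
    obtain ⟨u, hu⟩ := hconj _ _ h1 hy
    apply two_of_conj (g := u)
    rw [hu]
    apply key1
    · -- `a ^ (n / 4)` is a power of `b`
      have : a ^ (n / 4) ∈ zpowers b := by
        obtain ⟨f, rfl⟩ : ∃ f, e = f + 2 := ⟨e - 2, by omega⟩
        have h5 : n / 4 = m * 2 ^ f := by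
          rw [hnm, pow_add]
          have : 2 ^ f * 2 ^ 2 * m = (m * 2 ^ f) * 4 := by ring
          rw [this, Nat.mul_div_cancel _ (by norm_num)]
        rw [h5, pow_mul, ← hb]
        exact npow_mem_zpowers b _
      exact (zpowers_le.2 hP) this
    · exact npow_mem_zpowers a _

end Cfsg.Agent.H574
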