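import Mathlib
import Cfsg.Agent.H574.Redund
import Cfsg.Agent.ClassicalGeometry.NonsplitTorus
import Cfsg.Agent.ClassicalGeometry.SplitTorus
import Cfsg.Agent.ClassicalGeometry.SLTwoFour
import Cfsg.Agent.ClassicalGeometry.PSL2Basic
import Cfsg.Agent.LieClassical.SLTwoTorus
import Cfsg.Agent.LieClassical.SLTwoUnipotent
import Cfsg.Agent.PLocal.SLTwoSylow
set_option linter.all false

set_option autoImplicit false

open Subgroup Pointwise Matrix
open scoped MatrixGroups
open Cfsg.Agent.ClassicalGeometry.SplitTorus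

namespace Cfsg.Agent.H574

/-- the split torus of `SL₂(q)` -/
theorem exists_split_torus (F : Type*) [Field F] [Fintype F] :
    ∃ (a s : SL(2, F)),
      orderOf a = Fintype.card F - 1 ∧ s * s = -1 ∧ s⁻¹ * a * s = a⁻¹ ∧
      (∀ t ∈ Subgroup.zpowers a, t ≠ 1 → t ≠ -1 → ∀ g : SL(2, F),
        g⁻¹ * t * g ∈ Subgroup.zpowers a →
          g ∈ Subgroup.zpowers a ∨ g * s⁻¹ ∈ Subgroup.zpowers a) := by
  classical
  obtain ⟨l, hl⟩ := IsCyclic.exists_generator (α := Fˣ)
  have hinj : Function.Injective (dgHom F) := by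
    intro x y h
    have h2 : dg x = dg y := h
    have := dg00 x
    rw [h2, dg00] at this
    exact Units.ext this.symm
  have hmem : ∀ g : SL(2, F), g 0 1 = 0 → g 1 0 = 0 → g ∈ zpowers (dgHom F l) := by
    intro g h01 h10
    have hdet : g 0 0 * g 1 1 = 1 := by
      have := det_eq g
      rw [h01, zero_mul, sub_zero] at this
      exact this
    have hu : g = dg ⟨g 0 0, g 1 1, hdet, by rw [mul_comm]; exact hdet⟩ := by
      apply ext2
      · rfl
      · exact h01
      · exact h10
      · rfl
    obtain ⟨i, hi⟩ := mem_zpowers_iff.1 (hl ⟨g 0 0, g 1 1, hdet, by rw [mul_comm]; exact hdet⟩)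
    rw [hu, ← hi]
    exact ⟨i, (map_zpow (dgHom F) l i).symm⟩
  have hmem2 : ∀ g ∈ zpowers (dgHom F l), ∃ t : Fˣ, g = dg t := by
    rintro g ⟨i, rfl⟩
    exact ⟨l ^ i, (map_zpow (dgHom F) l i).symm⟩
  refine ⟨dgHom F l, wl F, ?_, ?_, ?_, ?_⟩
  · rw [orderOf_injective _ hinj, orderOf_eq_card_of_forall_mem_zpowers hl, Nat.card_eq_fintype_card,
      Fintype.card_units]
  · apply ext2
    · rw [mul00]; simp
    · rw [mul01]; simp
    · rw [mul10]; simp
    · rw [mul11]; simp
  · change (wl F)⁻¹ * dg l * wl F = (dg l)⁻¹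
    rw [mul_assoc, inv_mul_eq_iff_eq_mul, ← dg_inv]
    apply ext2
    · rw [mul00, mul00]; simp
    · rw [mul01, mul01]; simp
    · rw [mul10, mul10]; simp
    · rw [mul11, mul11]; simp
  · intro t ht ht1 ht2 g hg
    obtain ⟨u, rfl⟩ := hmem2 t ht
    obtain ⟨v, hv⟩ := hmem2 _ hg
    have h1 : dg u * g = g * dg v := by rw [← hv]; group
    have hne : (u : F) - ((u⁻¹ : Fˣ) : F) ≠ 0 := by
      intro h
      have h2 : (u : F) * (u : F) = 1 := by
        have : (u : F) = ((u⁻¹ : Fˣ) : F) := sub_eq_zero.1 h
        calc (u : F) * (u : F) = (u : F) * ((u⁻¹ : Fˣ) : F) := by rw [← this]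
          _ = 1 := u.mul_inv
      rcases mul_self_eq_one_iff.1 h2 with h3 | h3
      · apply ht1
        have : u = 1 := Units.ext h3
        rw [this, dg_one]
      · apply ht2
        have : u = -1 := Units.ext (by rw [h3]; simp)
        rw [this]
        apply ext2 <;> simp
    have h00 : (dg u * g) 0 0 = (g * dg v) 0 0 := by rw [h1]
    have h01 : (dg u * g) 0 1 = (g * dg v) 0 1 := by rw [h1]
    have h10 : (dg u * g) 1 0 = (g * dg v) 1 0 := by rw [h1]
    have h11 : (dg u * g) 1 1 = (g * dg v) 1 1 := by rw [h1]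
    rw [mul00, mul00, dg00, dg01, dg00, dg10] at h00
    rw [mul01, mul01, dg00, dg01, dg01, dg11] at h01
    rw [mul10, mul10, dg10, dg11, dg00, dg10] at h10
    rw [mul11, mul11, dg10, dg11, dg01, dg11] at h11
    have hdet := det_eq g
    by_cases hg00 : g 0 0 = 0
    · right
      have hg01 : g 0 1 ≠ 0 := by intro h; rw [hg00, h] at hdet; simp at hdet
      have e1 : (u : F) = ((v⁻¹ : Fˣ) : F) := by
        apply mul_right_cancel₀ hg01
        linear_combination h01
      have e2 : g 1 1 = 0 := by
        have h3 : ((u : F) - ((u⁻¹ : Fˣ) : F)) * g 1 1 = 0 := by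
          rw [← e1] at h11
          linear_combination (-1) * h11
        exact (mul_eq_zero.1 h3).resolve_left hne
      apply hmem
      · rw [mul01, inv01, inv11, hg00]; simp
      · rw [mul10, inv00, inv10, e2]; simp
    · left
      have e1 : (u : F) = (v : F) := by
        apply mul_right_cancel₀ hg00
        linear_combination h00
      have e1' : u = v := Units.ext e1
      subst e1'
      apply hmem
      · have h3 : ((u : F) - ((u⁻¹ : Fˣ) : F)) * g 0 1 = 0 := by linear_combination h01
        exact (mul_eq_zero.1 h3).resolve_left hne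
      · have h3 : ((u : F) - ((u⁻¹ : Fˣ) : F)) * g 1 0 = 0 := by linear_combination (-1) * h10
        exact (mul_eq_zero.1 h3).resolve_left hne

/-- the 2-part of the order of `SL₂(q)`, `q` odd -/
theorem factorization_card_SL2 (F : Type*) [Field F] [Fintype F] (hodd : Odd (Fintype.card F)) :
    (Nat.card SL(2, F)).factorization 2 =
      (Fintype.card F - 1).factorization 2 + (Fintype.card F + 1).factorization 2 := by
  rw [ClassicalGeometry.PSL2Basic.card_SL2]
  have hq : 1 < Fintype.card F := Fintype.one_lt_card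
  have h1 : Fintype.card F ^ 2 - 1 = (Fintype.card F - 1) * (Fintype.card F + 1) := by
    have := Nat.sq_sub_sq (Fintype.card F) 1
    rw [one_pow] at this
    rw [this, mul_comm]
  rw [h1, Nat.factorization_mul (by omega) (by
    apply mul_ne_zero <;> omega), Nat.factorization_mul (by omega) (by omega)]
  simp only [Finsupp.coe_add, Pi.add_apply]
  rw [Nat.factorization_eq_zero_of_not_dvd (n := Fintype.card F)]
  · ring
  · rw [← even_iff_two_dvd, Nat.not_even_iff_odd]; exact hodd

theorem factorization_eq_one {n : ℕ} (h : n % 4 = 2) : n.factorization 2 = 1 := by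
  obtain ⟨m, rfl⟩ : ∃ m, n = 2 * (2 * m + 1) := ⟨n / 4, by omega⟩
  rw [Nat.factorization_mul (by omega) (by omega), Nat.Prime.factorization Nat.prime_two]
  simp only [Finsupp.coe_add, Pi.add_apply, Finsupp.single_eq_same]
  rw [Nat.factorization_eq_zero_of_not_dvd (by omega)]

theorem exists_conj (F : Type*) [Field F] [Fintype F] (hodd : Odd (Fintype.card F))
    (x y : SL(2, F)) (hx : x * x = -1) (hy : y * y = -1) : ∃ g : SL(2, F), g⁻¹ * x * g = y := by
  obtain ⟨g, hg⟩ := ClassicalGeometry.SLTwoFour.exists_conj_w hodd x hx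
  obtain ⟨h, hh⟩ := ClassicalGeometry.SLTwoFour.exists_conj_w hodd y hy
  refine ⟨g * h⁻¹, ?_⟩
  rw [← hg, ← hh]
  group

theorem half_pow {F : Type*} [Field F] [Fintype F] (hodd : Odd (Fintype.card F)) (a : SL(2, F)) (n : ℕ)
    (hn : orderOf a = n) (h4 : 4 ∣ n) : a ^ (n / 2) = -1 := by
  have hn0 : 0 < n := by rw [← hn]; exact orderOf_pos a
  obtain ⟨m, rfl⟩ := h4
  have h1 : a ^ (4 * m / 2) * a ^ (4 * m / 2) = 1 := by
    rw [← pow_add]
    have : 4 * m / 2 + 4 * m / 2 = 4 * m := by omega
    rw [this, ← hn, pow_orderOf_eq_one]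
  rcases ClassicalGeometry.SLTwoFour.eq_one_or_neg_one_of_mul_self
    (ClassicalGeometry.SLTwoFour.two_ne_zero_of_odd hodd) _ h1 with h | h
  · have := orderOf_dvd_of_pow_eq_one h
    rw [hn] at this
    have := Nat.le_of_dvd (by omega) this
    omega
  · exact h

/-- the main theorem for `SL₂` -/
theorem red2_SL2_iff {F : Type*} [Field F] [Fintype F] (p : ℕ) [Fact p.Prime] :
    Red2 p SL(2, F) ↔
      (p = 2 ∧ (¬ ∃ k : ℕ, Fintype.card F + 1 = 2 ^ k) ∧ (¬ ∃ k : ℕ, Fintype.card F = 2 ^ k) ∧
        ¬ ∃ k : ℕ, Fintype.card F = 2 ^ k + 1) := by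
  classical
  have hq1 : 1 < Fintype.card F := Fintype.one_lt_card
  obtain ⟨r, hr⟩ := CharP.exists F
  obtain ⟨n, hrp, hcard⟩ := FiniteField.card F r
  have : Fact r.Prime := ⟨hrp⟩
  constructor
  · intro h
    obtain ⟨Q⟩ := (inferInstance : Nonempty (Sylow p SL(2, F)))
    -- `p ≠ r`
    have hpr : p ≠ r := by
      rintro rfl
      have hd : p ∣ Nat.card SL(2, F) := by
        rw [ClassicalGeometry.PSL2Basic.card_SL2, hcard]
        exact dvd_mul_of_dvd_left (dvd_pow_self p n.ne_zero) _
      have hQ : (Q : Subgroup SL(2, F)) ≠ ⊥ := Q.ne_bot_of_dvd_card hd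
      obtain ⟨x, hx1⟩ := Subgroup.ne_bot_iff_exists_ne_one.1 hQ
      exact not_red_of_inf Q x.1 x.2 (fun h => hx1 (Subtype.ext h))
        (fun P R hPR => LieClassical.SLTwoUnipotent.sylow_inf_eq_bot_SL p P R hPR) h
    have hp2 : p = 2 := by
      by_contra hp2
      apply not_red_of_isCyclic Q _ h
      have hcop : (Nat.card (Q : Subgroup SL(2, F))).Coprime r := by
        rw [Q.card_eq_multiplicity]
        exact Nat.Coprime.pow_left _ ((Nat.coprime_primes Fact.out hrp).2 hpr)
      have hcomm := PLocal.SLTwoSylow.comm_of_odd (p := r) (MonoidHom.id SL(2, F))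
        (fun x y hxy => hxy) hp2 Q
      by_cases hsc : ∀ x ∈ Q, x = 1 ∨ x = (-1 : SL(2, F))
      · -- scalars
        have : (Q : Subgroup SL(2, F)) = ⊥ := by
          rw [eq_bot_iff]
          intro x hx
          rcases hsc x hx with h1 | h1
          · exact h1
          · obtain ⟨k, hk⟩ := orderOf_of_mem Q hx
            have h2 : x ^ 2 = 1 := by
              rw [h1]; simp
            have h3 := orderOf_dvd_of_pow_eq_one h2
            rw [hk] at h3
            have h4 : p ^ k = 1 := by
              have hodd : Nat.Coprime (p ^ k) 2 :=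
                Nat.Coprime.pow_left _ ((Nat.coprime_primes Fact.out Nat.prime_two).2 hp2)
              exact Nat.Coprime.eq_one_of_dvd hodd h3
            rw [h4, orderOf_eq_one_iff] at hk
            exact hk
        change IsCyclic (Q : Subgroup SL(2, F))
        rw [this]
        infer_instance
      · push Not at hsc
        obtain ⟨z, hz, hz1, hz2⟩ := hsc
        refine LieClassical.SLTwoTorus.isCyclic_of_commute r (Q : Subgroup SL(2, F)) hcop
          (z : Matrix (Fin 2) (Fin 2) F) ?_ ?_
        · intro c hc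
          rcases ClassicalGeometry.NonsplitTorus.eq_one_or_of_smul z c hc with h1 | h1
          · exact hz1 h1
          · exact hz2 h1
        · intro x hx
          have := hcomm x hx z hz
          have h2 := congrArg (fun g : SL(2, F) => (g : Matrix (Fin 2) (Fin 2) F)) this
          simpa using h2
    subst hp2
    have hodd : Odd (Fintype.card F) := by
      rw [hcard]
      apply Odd.pow
      rcases hrp.eq_two_or_odd' with h1 | h1
      · exact absurd h1.symm hpr
      · exact h1
    have hA : ¬ ∃ k : ℕ, Fintype.card F + 1 = 2 ^ k := by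
      rintro ⟨k, hk⟩
      obtain ⟨a, s, ha, hss, hs, -, -, hN⟩ := ClassicalGeometry.NonsplitTorus.exists_torus_TI F
      have hk2 : 2 ≤ k := by
        by_contra hlt
        have h5 : k = 0 ∨ k = 1 := by omega
        rcases h5 with h5 | h5 <;> rw [h5] at hk <;> norm_num at hk <;> omega
      have h4 : Fintype.card F % 4 = 3 := by
        obtain ⟨j, rfl⟩ : ∃ j, k = j + 2 := ⟨k - 2, by omega⟩
        rw [pow_add] at hk
        omega
      refine not_red_of_torus a s (-1) k (by rw [ha, hk]) hk2 (by simp) ?_ ?_ h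
      · rw [factorization_card_SL2 F hodd, hk, Nat.Prime.factorization_pow Nat.prime_two,
          factorization_eq_one (by omega), Finsupp.single_eq_same, add_comm]
      · intro t ht ht1 ht2 g hg
        rcases hN t ht ht1 ht2 g hg with h1 | h1
        · exact Or.inl h1.1
        · exact Or.inr h1.1
    refine ⟨rfl, hA, ?_, ?_⟩
    · rintro ⟨k, hk⟩
      rw [hk] at hodd
      rcases Nat.eq_zero_or_pos k with h0 | h0
      · rw [h0] at hk; simp at hk; omega
      · have : Even (2 ^ k) := by
          rw [Nat.even_pow]; exact ⟨even_two, by omega⟩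
        exact (Nat.not_even_iff_odd.2 hodd) this
    · rintro ⟨k, hk⟩
      have hk2 : 2 ≤ k := by
        by_contra hlt
        have h5 : k = 0 ∨ k = 1 := by omega
        rcases h5 with h5 | h5
        · rw [h5] at hk; norm_num at hk; rw [hk] at hodd; exact absurd hodd (by decide)
        · rw [h5] at hk; norm_num at hk
          exact hA ⟨2, by rw [hk]; norm_num⟩
      have h4 : Fintype.card F % 4 = 1 := by
        obtain ⟨j, rfl⟩ : ∃ j, k = j + 2 := ⟨k - 2, by omega⟩
        rw [pow_add] at hk
        omega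
      obtain ⟨a, s, ha, hss, hs, hN⟩ := exists_split_torus F
      refine not_red_of_torus a s (-1) k (by rw [ha, hk]; rfl) hk2 (by simp) ?_ hN h
      have e1 : Fintype.card F - 1 = 2 ^ k := by omega
      rw [factorization_card_SL2 F hodd, e1, Nat.Prime.factorization_pow Nat.prime_two,
          factorization_eq_one (n := Fintype.card F + 1) (by omega), Finsupp.single_eq_same]
  · rintro ⟨rfl, hA, hB, hC⟩
    have hodd : Odd (Fintype.card F) := by
      rw [hcard]
      apply Odd.pow
      rcases hrp.eq_two_or_odd' with h1 | h1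
      · exfalso; apply hB; exact ⟨n, by rw [hcard, h1]⟩
      · exact h1
    have h4 : Fintype.card F % 4 = 1 ∨ Fintype.card F % 4 = 3 := by
      rw [Nat.odd_iff] at hodd; omega
    rcases h4 with h4 | h4
    · obtain ⟨a, s, ha, hss, hs, hN⟩ := exists_split_torus F
      have hd : 4 ∣ Fintype.card F - 1 := by omega
      refine red2_of_torus a s (-1) _ ha hd hs hss (half_pow hodd a _ ha hd)
        (exists_conj F hodd) ?_ ?_ hN
      · rw [factorization_card_SL2 F hodd, factorization_eq_one (n := Fintype.card F + 1) (by omega)]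
      · rintro ⟨k, hk⟩
        exact hC ⟨k, by omega⟩
    · obtain ⟨a, s, ha, hss, hs, -, -, hN⟩ := ClassicalGeometry.NonsplitTorus.exists_torus_TI F
      have hd : 4 ∣ Fintype.card F + 1 := by omega
      refine red2_of_torus a s (-1) _ ha hd hs hss (half_pow hodd a _ ha hd)
        (exists_conj F hodd) ?_ ?_ ?_
      · rw [factorization_card_SL2 F hodd, factorization_eq_one (n := Fintype.card F - 1) (by omega), add_comm]
      · rintro ⟨k, hk⟩
        exact hA ⟨k, by omega⟩
      · intro t ht ht1 ht2 g hg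
        rcases hN t ht ht1 ht2 g hg with h1 | h1
        · exact Or.inl h1.1
        · exact Or.inr h1.1

end Cfsg.Agent.H574
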